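import Mathlib
import Groth.Prelude.Def_Disc

set_option autoImplicit false
set_option linter.unusedSectionVars false
set_option linter.unusedVariables false
set_option linter.unusedSimpArgs false
set_option linter.style.haveILetI false
set_option maxHeartbeats 400000

/-!
# Norm of the different = discriminant (finite free, ω invertible)
-/

namespace Groth.Agent.Lib.Helper6.DiscN

open Disc TensorProduct

universe u

section Sym

/-- For an invertible module, `ψ m • m' = ψ m' • m`. -/
theorem inv_symm {R M : Type*} [CommRing R] [AddCommGroup M] [Module R M] [Module.Invertible R M]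
    (ψ : M →ₗ[R] R) (m m' : M) : ψ m • m' = ψ m' • m := by
  let L : M ⊗[R] M →ₗ[R] M := TensorProduct.lift ((LinearMap.lsmul R M) ∘ₗ ψ)
  have h := congrArg L (Module.Invertible.tmul_comm (R := R) (m₁ := m) (m₂ := m'))
  simpa [L] using h

end Sym

section Main

variable {A B : Type u} [CommRing A] [CommRing B] [Algebra A B]
  {ι : Type} [Fintype ι] [DecidableEq ι] (b : Module.Basis ι A B)

/-- Part 1: norms of elements of the different lie in the discriminant ideal. -/
theorem norm_mem_of_mem_differentSet {d : B} (hd : d ∈ differentSet A B) :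
    Algebra.norm A d ∈ Ideal.span {Algebra.discr A b} := by
  choose c hc using fun j => hd (b.coord j)
  rw [Algebra.norm_eq_matrix_det b, Ideal.mem_span_singleton']
  let C : Matrix ι ι A := Matrix.of fun j i => b.repr (c j) i
  have hM : Algebra.leftMulMatrix b d = C * Algebra.traceMatrix A b := by
    ext j k
    rw [Algebra.leftMulMatrix_eq_repr_mul, Matrix.mul_apply]
    have h1 := hc j (b k)
    rw [Module.Basis.coord_apply] at h1
    rw [h1]
    conv_lhs => rw [← b.sum_repr (c j)]
    rw [Finset.sum_mul, map_sum]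
    refine Finset.sum_congr rfl fun i _ => ?_
    rw [smul_mul_assoc, map_smul, smul_eq_mul, Algebra.traceMatrix_apply, Algebra.traceForm_apply]
    rfl
  refine ⟨C.det, ?_⟩
  rw [hM, Matrix.det_mul, Algebra.discr_def]

/-- The `A`-linear map underlying a `B`-linear map `ω → B`. -/
noncomputable def psiA (ψ : Omega A B →ₗ[B] B) : (B →ₗ[A] A) →ₗ[A] B where
  toFun φ := ψ ⟨φ⟩
  map_add' φ φ' := by
    have : (⟨φ + φ'⟩ : Omega A B) = ⟨φ⟩ + ⟨φ'⟩ := rfl
    rw [this, map_add]
  map_smul' a φ := by
    have : (⟨a • φ⟩ : Omega A B) = (algebraMap A B a) • (⟨φ⟩ : Omega A B) := by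
      apply Omega.ext
      ext x
      rw [Omega.smul_toLinearMap_apply]
      show a • φ x = φ (algebraMap A B a * x)
      rw [← Algebra.smul_def, map_smul]
    rw [this, map_smul, RingHom.id_apply, smul_eq_mul, Algebra.smul_def]

theorem psiA_apply (ψ : Omega A B →ₗ[B] B) (φ : B →ₗ[A] A) : psiA ψ φ = ψ ⟨φ⟩ := rfl

/-- The trace element. -/
noncomputable def tau : Omega A B := ⟨Algebra.trace A B⟩

variable [Module.Invertible B (Omega A B)]

/-- `ψ(τ)` lies in the different. -/
theorem psi_tau_mem (ψ : Omega A B →ₗ[B] B) : ψ (tau (A := A) (B := B)) ∈ differentSet A B := by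
  intro φ
  refine ⟨ψ ⟨φ⟩, fun x => ?_⟩
  have h := inv_symm ψ (tau (A := A) (B := B)) (⟨φ⟩ : Omega A B)
  have h2 := congrArg (fun ω : Omega A B => ω.toLinearMap x) h
  simp only [Omega.smul_toLinearMap_apply] at h2
  exact h2

/-- The matrix of `ψ` in the bases `b^*`, `b`. -/
noncomputable def PsiMat (ψ : Omega A B →ₗ[B] B) : Matrix ι ι A :=
  Matrix.of fun i j => b.repr (ψ ⟨b.coord j⟩) i

theorem repr_psiA (ψ : Omega A B →ₗ[B] B) (φ : B →ₗ[A] A) (i : ι) :
    b.repr (psiA ψ φ) i = ∑ j, PsiMat b ψ i j * φ (b j) := by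
  conv_lhs => rw [← b.sum_dual_apply_smul_coord φ]
  rw [map_sum, map_sum, Finsupp.finsetSum_apply]
  refine Finset.sum_congr rfl fun j _ => ?_
  rw [map_smul, map_smul, Finsupp.smul_apply, smul_eq_mul, mul_comm]
  rfl

theorem leftMulMatrix_psi_tau (ψ : Omega A B →ₗ[B] B) :
    Algebra.leftMulMatrix b (ψ (tau (A := A) (B := B))) = PsiMat b ψ * Algebra.traceMatrix A b := by
  ext i k
  rw [Algebra.leftMulMatrix_eq_repr_mul, Matrix.mul_apply]
  have h1 : ψ (tau (A := A) (B := B)) * b k = psiA ψ (Algebra.traceForm A B (b k)) := by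
    rw [psiA_apply, mul_comm, ← smul_eq_mul, ← map_smul]
    rfl
  rw [h1, repr_psiA]
  refine Finset.sum_congr rfl fun j _ => ?_
  rw [Algebra.traceMatrix_apply, Algebra.traceForm_apply, Algebra.traceForm_apply, mul_comm (b j)]

theorem norm_psi_tau (ψ : Omega A B →ₗ[B] B) :
    Algebra.norm A (ψ (tau (A := A) (B := B))) = (PsiMat b ψ).det * Algebra.discr A b := by
  rw [Algebra.norm_eq_matrix_det b, leftMulMatrix_psi_tau, Matrix.det_mul, Algebra.discr_def]

end Main

end Groth.Agent.Lib.Helper6.DiscN
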