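import Mathlib
import Groth.Prelude.Def_Disc
import Groth.Agent.Lib.Helper6.DiscN.DNa

set_option autoImplicit false
set_option linter.unusedSectionVars false
set_option linter.unusedVariables false
set_option linter.unusedSimpArgs false
set_option linter.style.haveILetI false
set_option maxHeartbeats 400000

namespace Groth.Agent.Lib.Helper6.DiscN

open Disc TensorProduct

universe u

section Main

variable {A B : Type u} [CommRing A] [CommRing B] [Algebra A B]
  {ι : Type} [Fintype ι] [DecidableEq ι] (b : Module.Basis ι A B)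

theorem repr_mem_of_mem_map (𝔪 : Ideal A) {y : B} (hy : y ∈ 𝔪.map (algebraMap A B)) (i : ι) :
    b.repr y i ∈ 𝔪 := by
  have h : y ∈ (𝔪 • (⊤ : Submodule A B)) := by
    rw [Ideal.smul_top_eq_map]
    exact hy
  refine Submodule.smul_induction_on h ?_ ?_
  · intro r hr n _
    rw [map_smul, Finsupp.smul_apply, smul_eq_mul]
    exact 𝔪.mul_mem_right _ hr
  · intro x y hx hy
    rw [map_add, Finsupp.add_apply]
    exact 𝔪.add_mem hx hy

variable [Module.Invertible B (Omega A B)]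

theorem exists_psi_surj_mod [Module.Finite A B] (𝔪 : Ideal A) [𝔪.IsMaximal] :
    ∃ ψ : Omega A B →ₗ[B] B, ∀ y : B, ∃ φ : Omega A B,
      ψ φ - y ∈ 𝔪.map (algebraMap A B) := by
  classical
  let IB : Ideal B := 𝔪.map (algebraMap A B)
  letI : Field (A ⧸ 𝔪) := Ideal.Quotient.field 𝔪
  haveI : Module.Finite (A ⧸ 𝔪) (B ⧸ IB) := Module.Finite.of_restrictScalars_finite A _ _
  haveI : IsArtinianRing (B ⧸ IB) := IsArtinianRing.of_finite (A ⧸ 𝔪) _
  have hfree : Module.Free (B ⧸ IB) ((B ⧸ IB) ⊗[B] Omega A B) := inferInstance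
  obtain ⟨e⟩ := Module.Invertible.free_iff_linearEquiv.mp hfree
  let g : Omega A B →ₗ[B] (B ⧸ IB) :=
    (e.toLinearMap.restrictScalars B) ∘ₗ (TensorProduct.mk B (B ⧸ IB) (Omega A B) 1)
  obtain ⟨ψ, hψ⟩ := Module.projective_lifting_property (Submodule.mkQ IB) g
    (Submodule.mkQ_surjective _)
  refine ⟨ψ, fun y => ?_⟩
  have hall : ∀ t : (B ⧸ IB) ⊗[B] Omega A B, ∃ φ : Omega A B, t = (1 : B ⧸ IB) ⊗ₜ[B] φ := by
    intro t
    induction t using TensorProduct.induction_on with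
    | zero => exact ⟨0, (tmul_zero _ _).symm⟩
    | add t1 t2 h1 h2 =>
      obtain ⟨φ1, rfl⟩ := h1
      obtain ⟨φ2, rfl⟩ := h2
      exact ⟨φ1 + φ2, (tmul_add _ _ _).symm⟩
    | tmul x φ =>
      obtain ⟨c, rfl⟩ := Ideal.Quotient.mk_surjective x
      refine ⟨c • φ, ?_⟩
      rw [← smul_tmul]
      congr 1
      rw [Algebra.smul_def, mul_one]
      rfl
  obtain ⟨φ, hφ⟩ := hall (e.symm (Ideal.Quotient.mk IB y))
  refine ⟨φ, ?_⟩
  have h1 : (Submodule.mkQ IB) (ψ φ) = g φ := by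
    rw [← hψ]
    rfl
  have h2 : g φ = Ideal.Quotient.mk IB y := by
    show e ((1 : B ⧸ IB) ⊗ₜ[B] φ) = _
    rw [← hφ, LinearEquiv.apply_symm_apply]
  rw [h2] at h1
  have h3 : Ideal.Quotient.mk IB (ψ φ) = Ideal.Quotient.mk IB y := h1
  rw [Ideal.Quotient.eq] at h3
  exact h3

theorem exists_psi_det_not_mem (𝔪 : Ideal A) [𝔪.IsMaximal] :
    ∃ ψ : Omega A B →ₗ[B] B, (PsiMat b ψ).det ∉ 𝔪 := by
  classical
  haveI : Module.Finite A B := Module.Finite.of_basis b
  obtain ⟨ψ, hψ⟩ := exists_psi_surj_mod (A := A) (B := B) 𝔪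
  refine ⟨ψ, fun hdet => ?_⟩
  choose φ hφ using fun i => hψ (b i)
  let X : Matrix ι ι A := Matrix.of fun j i => (φ i).toLinearMap (b j)
  have hPX : ∀ l i, (PsiMat b ψ * X) l i = b.repr (ψ (φ i)) l := by
    intro l i
    rw [Matrix.mul_apply]
    have := repr_psiA b ψ (φ i).toLinearMap l
    rw [psiA_apply] at this
    exact this.symm
  have hmap : (Ideal.Quotient.mk 𝔪).mapMatrix (PsiMat b ψ * X) = 1 := by
    ext l i
    rw [RingHom.mapMatrix_apply, Matrix.map_apply, hPX, Matrix.one_apply]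
    have h1 := repr_mem_of_mem_map b 𝔪 (hφ i) l
    rw [map_sub, Finsupp.sub_apply, Module.Basis.repr_self, Finsupp.single_apply] at h1
    have h2 : Ideal.Quotient.mk 𝔪 (b.repr (ψ (φ i)) l) =
        Ideal.Quotient.mk 𝔪 (if i = l then (1 : A) else 0) := by
      rw [Ideal.Quotient.eq]
      exact h1
    rw [h2]
    by_cases hil : i = l
    · subst hil
      simp
    · rw [if_neg hil, if_neg (fun h => hil h.symm), map_zero]
  have h3 : Ideal.Quotient.mk 𝔪 ((PsiMat b ψ * X).det) = 1 := by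
    rw [RingHom.map_det, hmap, Matrix.det_one]
  rw [Matrix.det_mul, map_mul, Ideal.Quotient.eq_zero_iff_mem.mpr hdet, zero_mul] at h3
  have hne : (1 : A ⧸ 𝔪) ≠ 0 := by
    intro h1
    have : (1 : A) ∈ 𝔪 := Ideal.Quotient.eq_zero_iff_mem.mp h1
    exact (Ideal.IsMaximal.ne_top ‹_›) ((Ideal.eq_top_iff_one _).mpr this)
  exact hne h3.symm

theorem discr_mem :
    Algebra.discr A b ∈ Ideal.span (Algebra.norm A '' differentSet A B) := by
  set J := Ideal.span (Algebra.norm A '' differentSet A B) with hJ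
  let 𝔞 : Ideal A := Submodule.comap (LinearMap.mulRight A (Algebra.discr A b)) J
  have h𝔞 : ∀ ψ : Omega A B →ₗ[B] B, (PsiMat b ψ).det ∈ 𝔞 := fun ψ => by
    show (PsiMat b ψ).det * Algebra.discr A b ∈ J
    rw [← norm_psi_tau]
    exact Ideal.subset_span ⟨_, psi_tau_mem ψ, rfl⟩
  have htop : 𝔞 = ⊤ := by
    by_contra hne
    obtain ⟨𝔪, hmax, hle⟩ := Ideal.exists_le_maximal 𝔞 hne
    obtain ⟨ψ, hψ⟩ := exists_psi_det_not_mem b 𝔪
    exact hψ (hle (h𝔞 ψ))
  have h1 : (1 : A) ∈ 𝔞 := by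
    rw [htop]
    trivial
  have h2 : (1 : A) * Algebra.discr A b ∈ J := h1
  rwa [one_mul] at h2

theorem main :
    Ideal.span (Algebra.norm A '' differentSet A B) = Ideal.span {Algebra.discr A b} := by
  apply le_antisymm
  · rw [Ideal.span_le]
    rintro _ ⟨d, hd, rfl⟩
    exact norm_mem_of_mem_differentSet b hd
  · rw [Ideal.span_singleton_le_iff_mem]
    exact discr_mem b

end Main

end Groth.Agent.Lib.Helper6.DiscN
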